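import Groth.Agent.Lib.RLpsi8.TopDegreeMain
import Groth.Agent.Lib.BCCoh.FlatBC
import Groth.Prelude.Def_ClSub2
import Groth.Prelude.Def_PicLoc
import Mathlib.RingTheory.Ideal.Quotient.Operations
import Mathlib.RingTheory.Nakayama

/-!
# First cohomology of the structure sheaf, when second cohomology vanishes

Over an affine base, when `H²` of all quasi-coherent modules vanishes, the formation of `H¹(X, O)` is
right exact in the base.
-/

set_option autoImplicit false
set_option backward.isDefEq.respectTransparency false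
set_option linter.style.haveILetI false
set_option maxHeartbeats 400000

universe u

open CategoryTheory CategoryTheory.Limits AlgebraicGeometry TopologicalSpace Opposite Abelian
open GrothLib GrothLib.QCoh GrothLib.RLpsi8

noncomputable section

namespace GrothLib.H1Fib29

/-- `H¹(X, O_X) = 0`. -/
def Van1 (X : Scheme.{u}) : Prop := Subsingleton (Coh.HH X (Coh.structureModule X) 1)

/-- `H²` of quasi-coherent modules vanishes. -/
def Van2 (X : Scheme.{u}) : Prop :=
  ∀ Q : X.Modules, Q.IsQuasicoherent → Subsingleton (Coh.HH X Q 2)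

theorem van2_of_dim {X : Scheme.{u}} {A : Type u} [CommRing A] (f : X ⟶ Spec (CommRingCat.of A)) [IsProper f]
    (hd : ∀ s, topologicalKrullDim ↥(f.fiber s) ≤ 1) : Van2 X := fun Q hQ =>
  @TopDegree.subsingleton_HH_succ _ _ _ f _ 1 (fun s => hd s) Q hQ

theorem van2_of_affineHom {X P : Scheme.{u}} (h : P ⟶ X) [IsAffineHom h] (hX : Van2 X) : Van2 P := by
  intro Q hQ
  haveI := hQ
  obtain ⟨e, -⟩ := TopDegree.exists_equiv_push h Q 2
  haveI := hX _ (QCoh.isQuasicoherent_pushforward h Q)
  exact e.toEquiv.subsingleton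

theorem isQuasicoherent_structure (X : Scheme.{u}) : (Coh.structureModule X).IsQuasicoherent :=
  InvExt.isQuasicoherent_of_isInvertible Euler.isInvertible_structure

theorem van1_of_iso {X P : Scheme.{u}} (h : P ⟶ X) [IsIso h] (hX : Van1 X) : Van1 P := by
  haveI := isQuasicoherent_structure P
  obtain ⟨e, -⟩ := TopDegree.exists_equiv_push h (Coh.structureModule P) 1
  haveI : IsIso (ClSub.unitToPush h) := by
    rw [Scheme.Modules.Hom.isIso_iff_isIso_app]
    intro U
    exact (ConcreteCategory.isIso_iff_bijective _).2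
      ((ConcreteCategory.isIso_iff_bijective (h.app U)).1 inferInstance)
  letI : X.Over (Spec (CommRingCat.of Γ(X, ⊤))) := ⟨X.toSpecΓ⟩
  obtain ⟨e', -⟩ := FormalFn.exists_hh_equiv (A := Γ(X, ⊤)) (asIso (ClSub.unitToPush h)) 1
  haveI : Subsingleton (Coh.HH X (Coh.structureModule X) 1) := hX
  haveI := e'.symm.toEquiv.subsingleton
  exact e.toEquiv.subsingleton

section

variable {X P : Scheme.{u}} {A B : Type u} [CommRing A] [CommRing B] {f : X ⟶ Spec (CommRingCat.of A)}
  {q : A →+* B} {fst : P ⟶ X} {snd : P ⟶ Spec (CommRingCat.of B)}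

/-- Sections of the base-changed structure sheaf over an affine are spanned by translates. -/
theorem mem_closure_translates (hP : IsPullback fst snd f (Spec.map (CommRingCat.ofHom q)))
    {V : X.Opens} (hV : IsAffineOpen V) (z : Γ(P, fst ⁻¹ᵁ V)) :
    z ∈ AddSubgroup.closure {w | ∃ (b : B) (v : Γ(X, V)),
      w = TopDegree.scal snd (fst ⁻¹ᵁ V) b * fst.app V v} := by
  let s : Set Γ(P, fst ⁻¹ᵁ V) := Set.range (fst.app V) ∪ Set.range (TopDegree.scal snd (fst ⁻¹ᵁ V))
  have hS : Subring.closure s = ⊤ := TopDegree.subring_eq_top f q hP hV _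
    (fun v => Subring.subset_closure (Or.inl ⟨v, rfl⟩)) fun a => Subring.subset_closure (Or.inr ⟨a, rfl⟩)
  have hz : z ∈ Subring.closure s := hS ▸ Subring.mem_top z
  refine AddSubgroup.closure_mono ?_ (Subring.mem_closure_iff.1 hz)
  intro w hw
  induction hw using Submonoid.closure_induction with
  | mem w hw =>
    rcases hw with ⟨v, rfl⟩ | ⟨a, rfl⟩
    · exact ⟨1, v, by simp [TopDegree.scal]⟩
    · exact ⟨a, 1, by simp [TopDegree.scal]⟩
  | one => exact ⟨1, 1, by simp [TopDegree.scal]⟩
  | mul w w' _ _ h h' =>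
    obtain ⟨a, v, rfl⟩ := h
    obtain ⟨a', v', rfl⟩ := h'
    exact ⟨a * a', v * v', by simp [TopDegree.scal]; ring⟩

/-- The translate of the unit by a scalar. -/
def tr (fst : P ⟶ X) (snd : P ⟶ Spec (CommRingCat.of B)) (b : B) :
    Coh.structureModule X ⟶ (Scheme.Modules.pushforward fst).obj (Coh.structureModule P) :=
  ClSub.unitToPush fst ≫ TopDegree.σ fst snd (Coh.structureModule P) b

theorem tr_app (b : B) (V : X.Opens) (v : Γ(X, V)) :
    (tr fst snd b).app V v = (TopDegree.scal snd (fst ⁻¹ᵁ V) b * fst.app V v : Γ(P, fst ⁻¹ᵁ V)) :=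
  TopDegree.σ_app fst snd (Coh.structureModule P) b V (fst.app V v)

theorem mem_closure_push [CompactSpace X] [QuasiSeparatedSpace X]
    (hP : IsPullback fst snd f (Spec.map (CommRingCat.ofHom q))) (hX : Van2 X)
    (x : Coh.HH X ((Scheme.Modules.pushforward fst).obj (Coh.structureModule P)) 1) :
    x ∈ AddSubgroup.closure {z | ∃ (b : B) (w : Coh.HH X (Coh.structureModule X) 1),
      z = Sheaf.H.map ((QCoh.toAbFun X).map (tr fst snd b)) 1 w} := by
  haveI := isQuasicoherent_structure X
  haveI := isQuasicoherent_structure P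
  haveI : IsAffineHom fst := MorphismProperty.of_isPullback hP.flip inferInstance
  haveI := QCoh.isQuasicoherent_pushforward fst (Coh.structureModule P)
  let 𝒱 := X.affineCover.finiteSubcover
  refine TopDegree.mem_of_translates 1 hX (fun b : B => tr fst snd b) (fun c : 𝒱.I₀ => (𝒱.f c).opensRange)
    (fun c => isAffineOpen_opensRange _) (fun x => ⟨𝒱.idx x, 𝒱.covers x⟩) (fun c z => ?_) x
  refine AddSubgroup.closure_mono ?_ (mem_closure_translates hP (isAffineOpen_opensRange (𝒱.f c)) z)
  rintro w ⟨b, v, rfl⟩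
  exact ⟨b, v, (tr_app b _ v).symm⟩

/-- **Vanishing is stable under affine base change.** -/
theorem van1_baseChange [CompactSpace X] [QuasiSeparatedSpace X]
    (hP : IsPullback fst snd f (Spec.map (CommRingCat.ofHom q))) (hX : Van2 X) (h1 : Van1 X) : Van1 P := by
  haveI := isQuasicoherent_structure P
  haveI : IsAffineHom fst := MorphismProperty.of_isPullback hP.flip inferInstance
  haveI : Subsingleton (Coh.HH X (Coh.structureModule X) 1) := h1
  obtain ⟨e, -⟩ := TopDegree.exists_equiv_push fst (Coh.structureModule P) 1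
  haveI : Subsingleton (Coh.HH X ((Scheme.Modules.pushforward fst).obj (Coh.structureModule P)) 1) := by
    refine subsingleton_of_forall_eq 0 fun x => ?_
    refine AddSubgroup.mem_bot.1 ((AddSubgroup.closure_le (K := ⊥)).2 ?_ (mem_closure_push hP hX x))
    rintro z ⟨b, w, rfl⟩
    rw [Subsingleton.elim w 0, map_zero]
    exact zero_mem _
  exact e.toEquiv.subsingleton

theorem smulAb_eq (hw : fst ≫ f = snd ≫ Spec.map (CommRingCat.ofHom q)) (a : A) :
    Coh.smulAb ((Scheme.Modules.pushforward fst).obj (Coh.structureModule P)) (Coh.toGlobal f a) =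
      (QCoh.toAbFun X).map (TopDegree.σ fst snd (Coh.structureModule P) (q a)) := by
  rw [TopDegree.smulAb_pushforward fst _ (Coh.toGlobal f a), TopDegree.appTop_toGlobal fst snd f q hw a]
  rfl

/-- Vanishing after inverting a scalar which kills `H¹`. -/
theorem van1_of_killed [CompactSpace X] [QuasiSeparatedSpace X]
    (hP : IsPullback fst snd f (Spec.map (CommRingCat.ofHom q))) (hX : Van2 X) (a : A) (ha : IsUnit (q a))
    (hk : ∀ w : Coh.HH X (Coh.structureModule X) 1,
      Sheaf.H.map (Coh.smulAb (Coh.structureModule X) (Coh.toGlobal f a)) 1 w = 0) : Van1 P := by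
  haveI := isQuasicoherent_structure P
  haveI : IsAffineHom fst := MorphismProperty.of_isPullback hP.flip inferInstance
  obtain ⟨e, -⟩ := TopDegree.exists_equiv_push fst (Coh.structureModule P) 1
  obtain ⟨b, hb⟩ := ha.exists_left_inv
  let F := (Scheme.Modules.pushforward fst).obj (Coh.structureModule P)
  let u := (QCoh.toAbFun X).map (ClSub.unitToPush fst)
  have h0 : ∀ w : Coh.HH X (Coh.structureModule X) 1, Sheaf.H.map u 1 w = 0 := by
    intro w
    have h1 : Sheaf.H.map ((QCoh.toAbFun X).map (TopDegree.σ fst snd (Coh.structureModule P) (q a))) 1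
        (Sheaf.H.map u 1 w) = 0 := by
      rw [← smulAb_eq hP.w a, ← Sheaf.H.map_comp_apply, ← Cohom.smulAb_naturality (ClSub.unitToPush fst),
        Sheaf.H.map_comp_apply, hk, map_zero]
    have h2 : TopDegree.σ fst snd (Coh.structureModule P) (q a) ≫
        TopDegree.σ fst snd (Coh.structureModule P) b = 𝟙 F := by
      refine Scheme.Modules.hom_ext _ _ fun U => ConcreteCategory.hom_ext _ _
        fun (z : Γ(Coh.structureModule P, fst ⁻¹ᵁ U)) => ?_
      show (TopDegree.σ fst snd (Coh.structureModule P) b).app U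
        ((TopDegree.σ fst snd (Coh.structureModule P) (q a)).app U z) = z
      rw [TopDegree.σ_app, TopDegree.σ_app, ← mul_smul, ← map_mul]
      have e1 : Coh.toGlobal snd b * Coh.toGlobal snd (q a) = 1 := by rw [← map_mul, hb, map_one]
      exact ((congrArg (fun r => P.presheaf.map _ r • z) e1).trans
        (congrArg (· • z) (map_one (P.presheaf.map _).hom))).trans (one_smul _ z)
    have h3 := congrArg (Sheaf.H.map ((QCoh.toAbFun X).map (TopDegree.σ fst snd (Coh.structureModule P) b)) 1) h1
    rw [← Sheaf.H.map_comp_apply, ← Functor.map_comp, h2, map_zero, CategoryTheory.Functor.map_id] at h3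
    simpa [Cohom.H_map_eq_comp] using h3
  haveI : Subsingleton (Coh.HH X F 1) := by
    refine subsingleton_of_forall_eq 0 fun x => ?_
    refine AddSubgroup.mem_bot.1 ((AddSubgroup.closure_le (K := ⊥)).2 ?_ (mem_closure_push hP hX x))
    rintro z ⟨c, w, rfl⟩
    rw [tr, Functor.map_comp, Sheaf.H.map_comp_apply]
    change _ ∈ (⊥ : AddSubgroup _)
    rw [show Sheaf.H.map ((QCoh.toAbFun X).map (ClSub.unitToPush fst)) 1 w = 0 from h0 w, map_zero]
    exact zero_mem _
  exact e.toEquiv.subsingleton

/-- The kernel of the restriction to a closed subscheme of the base, over an affine. -/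
theorem mem_map_of_app_eq_zero (hP : IsPullback fst snd f (Spec.map (CommRingCat.ofHom q)))
    (hq : Function.Surjective q) {V : X.Opens} (hV : IsAffineOpen V) (v : Γ(X, V))
    (hv : fst.app V v = 0) :
    v ∈ (RingHom.ker q).map ((X.presheaf.map (homOfLE (le_top : V ≤ ⊤)).op).hom.comp (Coh.toGlobal f)) := by
  haveI : IsAffine (V : Scheme.{u}) := hV
  have hpo := isPushout_appTop_of_isPullback
    ((isPullback_morphismRestrict fst V).flip.paste_horiz hP.flip).flip
  let θ : A →+* Γ((V : Scheme.{u}), ⊤) :=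
    (V.ι ≫ f).appTop.hom.comp (Scheme.ΓSpecIso (CommRingCat.of A)).inv.hom
  let J := (RingHom.ker q).map θ
  let mk : Γ((V : Scheme.{u}), ⊤) ⟶ CommRingCat.of (Γ((V : Scheme.{u}), ⊤) ⧸ J) :=
    CommRingCat.ofHom (Ideal.Quotient.mk J)
  have hker : RingHom.ker q ≤ RingHom.ker ((Ideal.Quotient.mk J).comp θ) := fun a ha => by
    rw [RingHom.mem_ker, RingHom.comp_apply, Ideal.Quotient.eq_zero_iff_mem]
    exact Ideal.mem_map_of_mem θ ha
  let l : B →+* Γ((V : Scheme.{u}), ⊤) ⧸ J :=
    q.liftOfSurjective hq ⟨(Ideal.Quotient.mk J).comp θ, hker⟩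
  have hl : ∀ a, l (q a) = Ideal.Quotient.mk J (θ a) := fun a =>
    RingHom.liftOfSurjective_comp_apply q hq ⟨_, hker⟩ a
  have hw2 : (V.ι ≫ f).appTop ≫ mk = (Spec.map (CommRingCat.ofHom q)).appTop ≫
      ((Scheme.ΓSpecIso (CommRingCat.of B)).hom ≫ CommRingCat.ofHom l) := by
    ext a
    obtain ⟨a, rfl⟩ : ∃ a', (Scheme.ΓSpecIso (CommRingCat.of A)).inv a' = a :=
      ⟨(Scheme.ΓSpecIso (CommRingCat.of A)).hom a, Iso.hom_inv_id_apply _ a⟩
    show Ideal.Quotient.mk J (θ a) =
      l ((Scheme.ΓSpecIso (CommRingCat.of B)).hom ((Spec.map (CommRingCat.ofHom q)).appTop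
        ((Scheme.ΓSpecIso (CommRingCat.of A)).inv a)))
    rw [show (Spec.map (CommRingCat.ofHom q)).appTop ((Scheme.ΓSpecIso (CommRingCat.of A)).inv a) =
        (Scheme.ΓSpecIso (CommRingCat.of B)).inv (q a) from
      (ConcreteCategory.congr_hom (Scheme.ΓSpecIso_inv_naturality (CommRingCat.ofHom q)) a).symm,
      Iso.inv_hom_id_apply]
    exact (hl a).symm
  let r := hpo.desc mk ((Scheme.ΓSpecIso (CommRingCat.of B)).hom ≫ CommRingCat.ofHom l) hw2
  have h0 : (fst ∣_ V).appTop (V.topIso.inv v) = 0 := by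
    rw [morphismRestrict_appTop]
    simp only [Scheme.Opens.topIso_inv, ConcreteCategory.comp_apply]
    change P.presheaf.map _ (fst.app _ (X.presheaf.map _ v)) = 0
    rw [← ConcreteCategory.comp_apply (X.presheaf.map _), fst.naturality, ConcreteCategory.comp_apply, hv,
      map_zero, map_zero]
  have h1 : Ideal.Quotient.mk J (V.topIso.inv v) = 0 := by
    have e := ConcreteCategory.congr_hom
      (hpo.inl_desc mk ((Scheme.ΓSpecIso (CommRingCat.of B)).hom ≫ CommRingCat.ofHom l) hw2) (V.topIso.inv v)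
    change r ((fst ∣_ V).appTop (V.topIso.inv v)) = _ at e
    rw [h0, map_zero] at e
    exact e.symm
  have h2 : V.topIso.inv v ∈ J := Ideal.Quotient.eq_zero_iff_mem.1 h1
  have h3 := Ideal.mem_map_of_mem V.topIso.hom.hom h2
  rw [show V.topIso.hom.hom (V.topIso.inv v) = v from Iso.inv_hom_id_apply V.topIso v, Ideal.map_map] at h3
  have e : V.topIso.hom.hom.comp θ =
      (X.presheaf.map (homOfLE (le_top : V ≤ ⊤)).op).hom.comp (Coh.toGlobal f) := RingHom.ext fun a => by
    show V.topIso.hom ((V.ι ≫ f).appTop _) = X.presheaf.map _ (f.appTop _)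
    rw [Scheme.Hom.comp_appTop, ConcreteCategory.comp_apply, Scheme.Opens.ι_appTop, Scheme.Opens.topIso_hom,
      ← ConcreteCategory.comp_apply, ← Functor.map_comp]
    rfl
  rwa [e] at h3

/-- Over a closed subscheme of the base, restriction of functions is surjective. -/
theorem epi_unitToPush [CompactSpace X] [QuasiSeparatedSpace X]
    (hP : IsPullback fst snd f (Spec.map (CommRingCat.ofHom q))) (hq : Function.Surjective q) :
    Epi (ClSub.unitToPush fst) := by
  haveI := isQuasicoherent_structure P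
  haveI : IsAffineHom fst := MorphismProperty.of_isPullback hP.flip inferInstance
  haveI hF := QCoh.isQuasicoherent_pushforward fst (Coh.structureModule P)
  let u := ClSub.unitToPush fst
  let 𝒱 := X.affineCover.finiteSubcover
  have hcov : ∀ x : X, ∃ c : 𝒱.I₀, x ∈ (𝒱.f c).opensRange := fun x => ⟨𝒱.idx x, 𝒱.covers x⟩
  have haff : ∀ c : 𝒱.I₀, IsAffineOpen (𝒱.f c).opensRange := fun c => isAffineOpen_opensRange _
  refine Abelian.epi_of_cokernel_π_eq_zero _ (TopDegree.hom_eq_zero (cokernel.π u)
    (fun c : 𝒱.I₀ => (𝒱.f c).opensRange) haff hcov fun c t => ?_)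
  have ht := mem_closure_translates hP (haff c) t
  induction ht using AddSubgroup.closure_induction with
  | mem w hw =>
    obtain ⟨b, v, rfl⟩ := hw
    obtain ⟨a, rfl⟩ := hq b
    have e : (TopDegree.scal snd (fst ⁻¹ᵁ (𝒱.f c).opensRange) (q a) * fst.app _ v :
        Γ(P, fst ⁻¹ᵁ (𝒱.f c).opensRange)) =
        u.app _ (X.presheaf.map (homOfLE le_top).op (Coh.toGlobal f a) * v : Γ(X, (𝒱.f c).opensRange)) := by
      show _ = fst.app _ _
      rw [map_mul]
      congr 1
      rw [← ConcreteCategory.comp_apply (X.presheaf.map _), fst.naturality, ConcreteCategory.comp_apply,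
        TopDegree.scal, ← TopDegree.appTop_toGlobal fst snd f q hP.w a]
      rfl
    exact (congrArg ((cokernel.π u).app _) e).trans
      (congrArg (fun m : Coh.structureModule X ⟶ _ => m.app _ _) (cokernel.condition u))
  | zero => exact map_zero _
  | add y z _ _ hy hz => rw [map_add, hy, hz, add_zero]
  | neg y _ hy => rw [map_neg, hy, neg_zero]

/-- Multiplication by a scalar in the ideal, into the kernel of the restriction. -/
def toKer (hw : fst ≫ f = snd ≫ Spec.map (CommRingCat.ofHom q)) (a : RingHom.ker q) :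
    Coh.structureModule X ⟶ kernel (ClSub.unitToPush fst) :=
  kernel.lift (ClSub.unitToPush fst) (Euler.smulMod (Coh.structureModule X) (Coh.toGlobal f a.1)) (by
    refine Scheme.Modules.hom_ext _ _ fun U => ConcreteCategory.hom_ext _ _ fun z => ?_
    show fst.app U ((Euler.smulMod (Coh.structureModule X) (Coh.toGlobal f a.1)).app U z) = 0
    rw [Euler.smulMod_app]
    show fst.app U (_ * (show Γ(X, U) from z)) = 0
    rw [map_mul]
    refine mul_eq_zero_of_left ?_ _
    show fst.app U (X.presheaf.map (homOfLE (le_top : U ≤ ⊤)).op (Coh.toGlobal f a.1)) = 0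
    rw [← ConcreteCategory.comp_apply (X.presheaf.map _), fst.naturality, ConcreteCategory.comp_apply]
    show P.presheaf.map _ (fst.appTop (Coh.toGlobal f a.1)) = 0
    rw [TopDegree.appTop_toGlobal fst snd f q hw a.1, RingHom.mem_ker.1 a.2, map_zero, map_zero])

theorem toKer_ι (hw : fst ≫ f = snd ≫ Spec.map (CommRingCat.ofHom q)) (a : RingHom.ker q) :
    toKer hw a ≫ kernel.ι (ClSub.unitToPush fst) =
      Euler.smulMod (Coh.structureModule X) (Coh.toGlobal f a.1) :=
  kernel.lift_ι _ _ _

/-- First cohomology of the ideal sheaf of a closed subscheme of the base. -/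
theorem mem_closure_kernel [CompactSpace X] [QuasiSeparatedSpace X]
    (hP : IsPullback fst snd f (Spec.map (CommRingCat.ofHom q))) (hq : Function.Surjective q) (hX : Van2 X)
    (y : Coh.HH X (kernel (ClSub.unitToPush fst)) 1) :
    y ∈ AddSubgroup.closure {z | ∃ (a : RingHom.ker q) (w : Coh.HH X (Coh.structureModule X) 1),
      z = Sheaf.H.map ((QCoh.toAbFun X).map (toKer hP.w a)) 1 w} := by
  haveI := isQuasicoherent_structure X
  haveI := isQuasicoherent_structure P
  haveI : IsAffineHom fst := MorphismProperty.of_isPullback hP.flip inferInstance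
  haveI hF := QCoh.isQuasicoherent_pushforward fst (Coh.structureModule P)
  let u := ClSub.unitToPush fst
  haveI : Epi u := epi_unitToPush hP hq
  let 𝒱 := X.affineCover.finiteSubcover
  have hcov : ∀ x : X, ∃ c : 𝒱.I₀, x ∈ (𝒱.f c).opensRange := fun x => ⟨𝒱.idx x, 𝒱.covers x⟩
  have haff : ∀ c : 𝒱.I₀, IsAffineOpen (𝒱.f c).opensRange := fun c => isAffineOpen_opensRange _
  have hS : (ShortComplex.mk (kernel.ι u) u (kernel.condition u)).ShortExact :=
    { exact := ShortComplex.exact_kernel u }
  haveI hK : (kernel u).IsQuasicoherent := QCoh.isQuasicoherent_kernel u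
  let κ := (RingHom.ker q : Ideal A)
  let t : κ → (Coh.structureModule X ⟶ kernel u) := fun a => toKer hP.w a
  have hgen : ∀ (c : 𝒱.I₀) (z : Γ(kernel u, (𝒱.f c).opensRange)),
      z ∈ AddSubgroup.closure {w | ∃ (a : κ) (n : Γ(X, (𝒱.f c).opensRange)), w = (t a).app _ n} := by
    intro c z
    let V := (𝒱.f c).opensRange
    have hinj : Function.Injective ((kernel.ι u).app V) := QCoh.app_injective hS V
    have hz := mem_map_of_app_eq_zero hP hq (haff c) ((kernel.ι u).app V z)
      (congrArg (fun m : kernel u ⟶ _ => m.app V z) (kernel.condition u))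
    suffices ∀ v : Γ(X, V), v ∈ Ideal.map
        ((X.presheaf.map (homOfLE (le_top : V ≤ ⊤)).op).hom.comp (Coh.toGlobal f)) (RingHom.ker q) →
        ∃ z' ∈ AddSubgroup.closure {w | ∃ (a : κ) (n : Γ(X, V)), w = (t a).app _ n},
          (kernel.ι u).app V z' = v by
      obtain ⟨z', hz', e⟩ := this _ hz
      rwa [hinj e] at hz'
    intro v hv
    induction hv using Submodule.span_induction with
    | mem v hv =>
      obtain ⟨a, ha, rfl⟩ := hv
      refine ⟨(t ⟨a, ha⟩).app V (show Γ(Coh.structureModule X, V) from (1 : Γ(X, V))), AddSubgroup.subset_closure ⟨⟨a, ha⟩, 1, rfl⟩, ?_⟩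
      rw [← ConcreteCategory.comp_apply, ← Scheme.Modules.Hom.comp_app, toKer_ι, Euler.smulMod_app]
      exact mul_one (M := Γ(X, V)) _
    | zero => exact ⟨0, zero_mem _, map_zero _⟩
    | add y z _ _ hy hz =>
      obtain ⟨y', hy', ey⟩ := hy
      obtain ⟨z', hz', ez⟩ := hz
      exact ⟨y' + z', add_mem hy' hz', by rw [map_add, ey, ez]⟩
    | smul r y _ hy =>
      obtain ⟨y', hy', ey⟩ := hy
      refine ⟨r • y', ?_, by rw [Scheme.Modules.Hom.app_smul, ey]⟩
      clear ey
      induction hy' using AddSubgroup.closure_induction with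
      | mem w hw =>
        obtain ⟨a, n, rfl⟩ := hw
        exact AddSubgroup.subset_closure ⟨a, (r * n : Γ(X, V)), (Scheme.Modules.Hom.app_smul (t a) r n).symm⟩
      | zero => rw [smul_zero]; exact zero_mem _
      | add y z _ _ hy hz => rw [smul_add]; exact add_mem hy hz
      | neg y _ hy => rw [smul_neg]; exact neg_mem hy
  exact TopDegree.mem_of_translates 1 hX t (fun c : 𝒱.I₀ => (𝒱.f c).opensRange) haff hcov hgen y

/-- **Right exactness along a closed immersion of the base.** -/
theorem mem_smul_of_van1 [CompactSpace X] [QuasiSeparatedSpace X]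
    (hP : IsPullback fst snd f (Spec.map (CommRingCat.ofHom q))) (hq : Function.Surjective q) (hX : Van2 X)
    (h1 : Van1 P) (x : Coh.HH X (Coh.structureModule X) 1) :
    x ∈ AddSubgroup.closure {z | ∃ a ∈ RingHom.ker q, ∃ w : Coh.HH X (Coh.structureModule X) 1,
      z = Sheaf.H.map (Coh.smulAb (Coh.structureModule X) (Coh.toGlobal f a)) 1 w} := by
  haveI := isQuasicoherent_structure P
  haveI : IsAffineHom fst := MorphismProperty.of_isPullback hP.flip inferInstance
  let u := ClSub.unitToPush fst
  haveI : Epi u := epi_unitToPush hP hq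
  have hS : (ShortComplex.mk (kernel.ι u) u (kernel.condition u)).ShortExact :=
    { exact := ShortComplex.exact_kernel u }
  let S := ShortComplex.mk (kernel.ι u) u (kernel.condition u)
  obtain ⟨e, -⟩ := TopDegree.exists_equiv_push fst (Coh.structureModule P) 1
  haveI : Subsingleton (Coh.HH P (Coh.structureModule P) 1) := h1
  haveI hs3 : Subsingleton (Coh.HH X ((Scheme.Modules.pushforward fst).obj (Coh.structureModule P)) 1) :=
    e.symm.toEquiv.subsingleton
  let x' : Ext.{u} _ (S.map (QCoh.toAbFun X)).X₂ 1 := x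
  obtain ⟨y, hy⟩ := Ext.covariant_sequence_exact₂ _ (QCoh.toAbFun_map_shortExact S hS) x' (hs3.elim _ _)
  have hy' := mem_closure_kernel hP hq hX y
  have hxy : Sheaf.H.map ((QCoh.toAbFun X).map (kernel.ι u)) 1 y = x := hy
  rw [← hxy]
  clear hxy hy
  induction hy' using AddSubgroup.closure_induction with
  | mem z hz =>
    obtain ⟨a, w, rfl⟩ := hz
    refine AddSubgroup.subset_closure ⟨a.1, a.2, w, ?_⟩
    rw [← Sheaf.H.map_comp_apply, ← Functor.map_comp, toKer_ι]
    rfl
  | zero => rw [map_zero]; exact zero_mem _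
  | add y z _ _ hy hz => rw [map_add]; exact add_mem hy hz
  | neg y _ hy => rw [map_neg]; exact neg_mem hy

/-- Nakayama: vanishing on the closed fibre over a local base. -/
theorem van1_of_closedFibre [IsLocalRing A] [CompactSpace X] [QuasiSeparatedSpace X]
    (hP : IsPullback fst snd f (Spec.map (CommRingCat.ofHom q))) (hq : Function.Surjective q)
    (hker : RingHom.ker q ≤ IsLocalRing.maximalIdeal A) (hX : Van2 X)
    (hfin : letI := BCCoh.modHH f (Coh.structureModule X) 1; Module.Finite A (Coh.HH X (Coh.structureModule X) 1))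
    (h1 : Van1 P) : Van1 X := by
  letI := BCCoh.modHH f (Coh.structureModule X) 1
  haveI : Module.Finite A (Coh.HH X (Coh.structureModule X) 1) := hfin
  have hle : (⊤ : Submodule A (Coh.HH X (Coh.structureModule X) 1)) ≤
      IsLocalRing.maximalIdeal A • (⊤ : Submodule A (Coh.HH X (Coh.structureModule X) 1)) := fun x _ => by
    refine (AddSubgroup.closure_le (K := (IsLocalRing.maximalIdeal A •
      (⊤ : Submodule A (Coh.HH X (Coh.structureModule X) 1))).toAddSubgroup)).2 ?_
      (mem_smul_of_van1 hP hq hX h1 x)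
    rintro z ⟨a, ha, w, rfl⟩
    exact Submodule.smul_mem_smul (hker ha) (Submodule.mem_top (x := w))
  have h0 := Submodule.eq_bot_of_le_smul_of_le_jacobson_bot _ _ Module.Finite.fg_top hle
    (IsLocalRing.maximalIdeal_le_jacobson _)
  refine subsingleton_of_forall_eq 0 fun x => ?_
  exact (Submodule.mem_bot A).1 (h0 ▸ Submodule.mem_top (x := x))

end

end GrothLib.H1Fib29
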