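import Groth.Agent.Lib.H1Fib29.Near
import Groth.Agent.Lib.QCoh.GenericPoint
import Mathlib.RingTheory.MvPolynomial.Basic

/-!
# Global consequences of vanishing `H¹` on fibres of dimension at most one
-/

set_option autoImplicit false
set_option backward.isDefEq.respectTransparency false
set_option linter.style.haveILetI false
set_option maxHeartbeats 400000

universe u

open CategoryTheory CategoryTheory.Limits AlgebraicGeometry TopologicalSpace Opposite Abelian TensorProduct
open GrothLib GrothLib.QCoh GrothLib.RLpsi8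

noncomputable section

namespace GrothLib.H1Fib29

variable {X Y : Scheme.{u}}

/-- A function of the base as a global function. -/
def cst {A : Type u} [CommRing A] (f : X ⟶ Spec (CommRingCat.of A)) : A →+* Γ(X, ⊤) := Coh.toGlobal f

theorem van1_preimage_of_forall (f : X ⟶ Y) [IsProper f]
    (hd : ∀ y : Y, topologicalKrullDim ↥(f.fiber y) ≤ 1) (h1 : ∀ y : Y, Van1 (f.fiber y))
    {W : Y.Opens} (hW : IsAffineOpen W) : Van1 (f ⁻¹ᵁ W : X.Opens) := by
  haveI := isQuasicoherent_structure X
  choose V hyV hV using fun y => exists_nhd_van1 f y (hd y) (h1 y)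
  choose D hD hyD hDV using fun y => exists_isAffineOpen_mem_and_subset (hyV y)
  have hz : IsZero ((Coh.RpushAb f 1).obj (Coh.toAb (Coh.structureModule X))) := by
    refine RelVanish.isZero_RpushAb_of_cover f _ 1 D hD (fun y => ⟨y, hyD y⟩) fun y => ?_
    have hP := hV y (hD y).fromSpec (fun z => hDV y (by
      have : (hD y).fromSpec z ∈ Set.range (hD y).fromSpec := ⟨z, rfl⟩
      rwa [(hD y).range_fromSpec] at this)) (isPullback_affBase f (hD y))
    obtain ⟨e⟩ := Cohom.nonempty_HHon_equiv (Coh.structureModule X) (f ⁻¹ᵁ D y) 1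
    haveI := (van1_opens_iff _).1 hP
    exact e.symm.toEquiv.subsingleton
  haveI := FibreVanish.subsingleton_ext_of_isZero f (Coh.structureModule X) 1 hz hW
  obtain ⟨e⟩ := Cohom.nonempty_HHon_equiv (Coh.structureModule X) (f ⁻¹ᵁ W) 1
  exact (van1_opens_iff _).2 e.toEquiv.subsingleton

theorem subsingleton_HH_of_epi [CompactSpace X] [QuasiSeparatedSpace X] (hX : Van2 X) (h1 : Van1 X)
    (F : X.Modules) [F.IsQuasicoherent] {ι : Type u}
    (e : (∐ fun _ : ι => Coh.structureModule X) ⟶ F) [Epi e] : Subsingleton (Coh.HH X F 1) := by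
  haveI := isQuasicoherent_structure X
  let t : ι → (Coh.structureModule X ⟶ F) := fun i => Sigma.ι (fun _ : ι => Coh.structureModule X) i ≫ e
  let c : ι → Γ(F, ⊤) := fun i => (t i).app ⊤ (show Γ(Coh.structureModule X, ⊤) from (1 : Γ(X, ⊤)))
  let Q : SubData F := SubData.gen (Set.range c)
  have ht : ∀ (i : ι) (W : X.Opens) (r : Γ(X, W)), (t i).app W r = r • rr le_top (c i) := by
    intro i W r
    have e1 : rr le_top (c i) = (t i).app W (show Γ(Coh.structureModule X, W) from (1 : Γ(X, W))) :=
      (QCoh.map_app (t i) (homOfLE le_top) _).trans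
        (congrArg ((t i).app W) (map_one (X.presheaf.map (homOfLE (le_top : W ≤ ⊤)).op).hom))
    rw [e1, ← Scheme.Modules.Hom.app_smul]
    exact congrArg ((t i).app W) (mul_one r).symm
  haveI : Mono Q.ι := QCoh.mono_of_app_injective _ Q.ι_app_injective
  haveI : Epi Q.ι := by
    refine Abelian.epi_of_cokernel_π_eq_zero _ ?_
    rw [← cancel_epi e, comp_zero]
    refine Sigma.hom_ext _ _ fun i => ?_
    rw [comp_zero, ← Category.assoc]
    refine Scheme.Modules.hom_ext _ _ fun W => ConcreteCategory.hom_ext _ _ fun (r : Γ(X, W)) => ?_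
    show (cokernel.π Q.ι).app W ((t i).app W r) = 0
    have hm : (t i).app W r ∈ Q.sec W := by
      rw [ht]
      exact SubData.mem_gen_of_mem_span le_top
        (Submodule.smul_mem _ _ (Submodule.subset_span ⟨c i, ⟨i, rfl⟩, rfl⟩))
    rw [← Q.ι_app_lift _ hm]
    exact congrArg (fun m : Q.obj ⟶ _ => m.app W (Q.lift _ hm)) (cokernel.condition Q.ι)
  haveI : IsIso Q.ι := isIso_of_mono_of_epi _
  let 𝒱 := X.affineCover.finiteSubcover
  refine subsingleton_of_forall_eq 0 fun x => ?_
  refine AddSubgroup.mem_bot.1 ((AddSubgroup.closure_le (K := ⊥)).2 ?_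
    (TopDegree.mem_of_translates 1 hX t (fun c : 𝒱.I₀ => (𝒱.f c).opensRange)
      (fun c => isAffineOpen_opensRange _) (fun x => ⟨𝒱.idx x, 𝒱.covers x⟩) (fun k z => ?_) x))
  · rintro z ⟨i, w, rfl⟩
    haveI : Subsingleton (Coh.HH X (Coh.structureModule X) 1) := h1
    rw [Subsingleton.elim w 0, map_zero]
    exact zero_mem _
  · let V := (𝒱.f k).opensRange
    have hz : z ∈ Q.sec V := by
      have hs : Function.Surjective (Q.ι.app V) :=
        ((ConcreteCategory.isIso_iff_bijective _).1
          (Scheme.Modules.Hom.isIso_iff_isIso_app.1 inferInstance V)).2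
      obtain ⟨z', rfl⟩ := hs z
      exact Q.ι_app_mem z'
    rw [SubData.mem_gen_iff (isAffineOpen_opensRange _) le_top] at hz
    induction hz using Submodule.span_induction with
    | mem w hw =>
      obtain ⟨_, ⟨i, rfl⟩, rfl⟩ := hw
      refine AddSubgroup.subset_closure ⟨i, (show Γ(Coh.structureModule X, V) from (1 : Γ(X, V))), ?_⟩
      rw [show (t i).app V (show Γ(Coh.structureModule X, V) from (1 : Γ(X, V))) = _ from ht i V 1, one_smul]
    | zero => exact zero_mem _
    | add y z _ _ hy hz => exact add_mem hy hz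
    | smul r y hy0 hy =>
      clear hy0
      induction hy using AddSubgroup.closure_induction with
      | mem w hw =>
        obtain ⟨i, n, rfl⟩ := hw
        exact AddSubgroup.subset_closure ⟨i, r • n, (Scheme.Modules.Hom.app_smul (t i) r n).symm⟩
      | zero => rw [smul_zero]; exact zero_mem _
      | add y z _ _ hy hz => rw [smul_add]; exact add_mem hy hz
      | neg y _ hy => rw [smul_neg]; exact neg_mem hy

/-- Global functions through degree-zero cohomology, linearly over the base. -/
theorem exists_H0_equiv {A : Type u} [CommRing A] (f : X ⟶ Spec (CommRingCat.of A)) :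
    ∃ e : Coh.HH X (Coh.structureModule X) 0 ≃+ Γ(X, ⊤), ∀ (a : A) x,
      letI := BCCoh.modHH f (Coh.structureModule X) 0; e (a • x) = cst f a * e x := by
  refine ⟨Sheaf.H.equiv₀ (Coh.toAb (Coh.structureModule X)) (T := (⊤ : X.Opens)) isTerminalTop, fun a x => ?_⟩
  refine ((Sheaf.H.equiv₀_naturality isTerminalTop (Coh.smulAb (Coh.structureModule X) (Coh.toGlobal f a)) x).symm.trans
    ((Coh.smulAb_app _ _ (op ⊤) _).trans ?_))
  have e2 : Coh.resTop X (op ⊤) (Coh.toGlobal f a) = Coh.toGlobal f a := by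
    show (X.ringCatSheaf.obj.map (𝟙 _)).hom _ = _
    rw [CategoryTheory.Functor.map_id]; rfl
  rw [e2]
  rfl

/-- Surjectivity onto global functions is stable under flat base change. -/
theorem surjective_toGlobal_flat {A B : Type u} [CommRing A] [CommRing B] (q : A →+* B) (hq : q.Flat)
    {P : Scheme.{u}} (f : X ⟶ Spec (CommRingCat.of A)) [CompactSpace X] [X.IsSeparated]
    {fst : P ⟶ X} {snd : P ⟶ Spec (CommRingCat.of B)}
    (hP : IsPullback fst snd f (Spec.map (CommRingCat.ofHom q)))
    (hs : Function.Surjective (cst f)) : Function.Surjective (cst snd) := by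
  haveI := isQuasicoherent_structure X
  letI := q.toAlgebra
  obtain ⟨eb⟩ := BCCoh.exists_flatBC q hq f snd fst hP (Coh.structureModule X) 0
  obtain ⟨eI, heI⟩ := BCCoh.exists_hh_equiv (B := B) snd (PicLoc.pullbackStructureIso fst) 0
  obtain ⟨e₀, he₀⟩ := exists_H0_equiv f
  obtain ⟨e₁, he₁⟩ := exists_H0_equiv snd
  letI := BCCoh.modHH f (Coh.structureModule X) 0
  letI := BCCoh.modHH snd (Coh.structureModule P) 0
  letI := BCCoh.modHH snd ((Scheme.Modules.pullback fst).obj (Coh.structureModule X)) 0
  let E : (B ⊗[A] Coh.HH X (Coh.structureModule X) 0) ≃ₗ[B] Coh.HH P (Coh.structureModule P) 0 :=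
    eb.trans (eI.toLinearEquiv heI)
  let o := e₀.symm 1
  let m : Γ(P, ⊤) := e₁ (E (1 ⊗ₜ o))
  have key : ∀ z : Γ(P, ⊤), ∃ b, z = cst snd b * m := by
    intro z
    have hcyc : ∀ w : B ⊗[A] Coh.HH X (Coh.structureModule X) 0, ∃ b : B, w = b • (1 ⊗ₜ o) := by
      intro w
      induction w using TensorProduct.induction_on with
      | zero => exact ⟨0, (zero_smul _ _).symm⟩
      | tmul b x =>
        obtain ⟨a, ha⟩ := hs (e₀ x)
        have hx : x = a • o := e₀.injective (by rw [he₀, e₀.apply_symm_apply, mul_one, ha])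
        exact ⟨a • b, by rw [hx, ← TensorProduct.smul_tmul, TensorProduct.smul_tmul', smul_eq_mul, mul_one]⟩
      | add x y hx hy =>
        obtain ⟨b, rfl⟩ := hx
        obtain ⟨c, rfl⟩ := hy
        exact ⟨b + c, (add_smul b c _).symm⟩
    obtain ⟨b, hb⟩ := hcyc (E.symm (e₁.symm z))
    refine ⟨b, ?_⟩
    have e2 := congrArg (fun w => e₁ (E w)) hb
    simp only [E.apply_symm_apply, e₁.apply_symm_apply, map_smul, he₁] at e2
    exact e2
  obtain ⟨b, hb⟩ := key 1
  obtain ⟨c, hc⟩ := key (m * m)
  have hm : m = cst snd c := by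
    calc m = (cst snd b * m) * m := by rw [← hb, one_mul]
      _ = cst snd b * (cst snd c * m) := by rw [mul_assoc, hc]
      _ = (cst snd b * m) * cst snd c := by ring
      _ = cst snd c := by rw [← hb, one_mul]
  intro z
  obtain ⟨d, hd⟩ := key z
  exact ⟨d * c, by rw [map_mul, ← hm]; exact hd.symm⟩

/-- Restriction of global functions to a closed subscheme of the base is surjective. -/
theorem surjective_appTop_of_van1 {A B : Type u} [CommRing A] [CommRing B] {P : Scheme.{u}}
    {f : X ⟶ Spec (CommRingCat.of A)} {q : A →+* B} {fst : P ⟶ X} {snd : P ⟶ Spec (CommRingCat.of B)}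
    [CompactSpace X] [QuasiSeparatedSpace X]
    (hP : IsPullback fst snd f (Spec.map (CommRingCat.ofHom q))) (hq : Function.Surjective q)
    (hX : Van2 X) (h1 : Van1 X) : Function.Surjective (fst.app ⊤) := by
  let u := ClSub.unitToPush fst
  haveI : Epi u := epi_unitToPush hP hq
  have hS : (ShortComplex.mk (kernel.ι u) u (kernel.condition u)).ShortExact :=
    { exact := ShortComplex.exact_kernel u }
  haveI : Subsingleton (Coh.HH X (Coh.structureModule X) 1) := h1
  haveI : Subsingleton (Coh.HH X (kernel u) 1) := by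
    refine subsingleton_of_forall_eq 0 fun y => ?_
    refine AddSubgroup.mem_bot.1 ((AddSubgroup.closure_le (K := ⊥)).2 ?_ (mem_closure_kernel hP hq hX y))
    rintro z ⟨a, w, rfl⟩
    rw [Subsingleton.elim w 0, map_zero]
    exact zero_mem _
  exact QCoh.app_surjective_of_subsingleton hS ⊤
    (Cohom.HEquivTop (T := TopCat.of X) (Coh.toAb (kernel u)) 1).symm.toEquiv.subsingleton

/-- Surjectivity onto global functions is stable under every affine base change. -/
theorem surjective_toGlobal_baseChange {A B : Type u} [CommRing A] [CommRing B] (q : A →+* B)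
    {P : Scheme.{u}} (f : X ⟶ Spec (CommRingCat.of A)) [IsProper f]
    {fst : P ⟶ X} {snd : P ⟶ Spec (CommRingCat.of B)}
    (hP : IsPullback fst snd f (Spec.map (CommRingCat.ofHom q))) (hX : Van2 X) (h1 : Van1 X)
    (hs : Function.Surjective (cst f)) : Function.Surjective (cst snd) := by
  haveI : CompactSpace X := QuasiCompact.compactSpace_of_compactSpace f
  haveI : X.IsSeparated := ⟨by rw [← terminal.comp_from f]; infer_instance⟩
  letI := q.toAlgebra
  let C : Type u := MvPolynomial B A
  let π : C →+* B := MvPolynomial.eval₂Hom q id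
  have hπ : Function.Surjective π := fun b => ⟨MvPolynomial.X b, MvPolynomial.eval₂Hom_X' q id b⟩
  let ι : A →+* C := MvPolynomial.C
  have hι : ι.Flat := RingHom.flat_algebraMap_iff.2 (inferInstanceAs (Module.Flat A (MvPolynomial B A)))
  let Q := pullback f (Spec.map (CommRingCat.ofHom ι))
  let g : Q ⟶ X := pullback.fst _ _
  let fQ : Q ⟶ Spec (CommRingCat.of C) := pullback.snd _ _
  have HQ : IsPullback g fQ f (Spec.map (CommRingCat.ofHom ι)) := IsPullback.of_hasPullback _ _
  haveI : IsAffineHom g := MorphismProperty.of_isPullback HQ.flip inferInstance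
  haveI : IsProper fQ := inferInstanceAs (IsProper (pullback.snd _ _))
  haveI : CompactSpace Q := QuasiCompact.compactSpace_of_compactSpace fQ
  haveI : QuasiSeparatedSpace Q := quasiSeparatedSpace_of_quasiSeparated fQ
  have hcomp : π.comp ι = q := MvPolynomial.eval₂Hom_comp_C q id
  have hmap : Spec.map (CommRingCat.ofHom π) ≫ Spec.map (CommRingCat.ofHom ι) = Spec.map (CommRingCat.ofHom q) := by
    rw [← Spec.map_comp]
    congr 1
    exact CommRingCat.hom_ext hcomp
  have hw : fst ≫ f = (snd ≫ Spec.map (CommRingCat.ofHom π)) ≫ Spec.map (CommRingCat.ofHom ι) := by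
    rw [Category.assoc, hmap]; exact hP.w
  have hP' : IsPullback (HQ.lift _ _ hw) snd fQ (Spec.map (CommRingCat.ofHom π)) :=
    IsPullback.of_right (s := by rw [HQ.lift_fst, hmap]; exact hP) (HQ.lift_snd _ _ hw) HQ
  have h1Q : Van1 Q := van1_baseChange HQ hX h1
  have hsQ := surjective_toGlobal_flat ι hι f HQ hs
  intro z
  obtain ⟨w, rfl⟩ := surjective_appTop_of_van1 hP' hπ (van2_of_affineHom g hX) h1Q z
  obtain ⟨c, rfl⟩ := hsQ w
  exact ⟨π c, (TopDegree.appTop_toGlobal (HQ.lift _ _ hw) snd fQ π hP'.w c).symm⟩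

end GrothLib.H1Fib29

namespace GrothLib.H1Fib29

variable {X Y : Scheme.{u}}

/-- Vanishing on the fibre follows from vanishing after an extension of the residue field. -/
theorem van1_fiber_of_field (f : X ⟶ Y) [IsProper f] {K : Type u} [Field K] (j : Spec (CommRingCat.of K) ⟶ Y)
    {y : Y} (hj : j (IsLocalRing.closedPoint K) = y) {P : Scheme.{u}} {fst : P ⟶ X}
    {snd : P ⟶ Spec (CommRingCat.of K)} (hP : IsPullback fst snd f j) (h1 : Van1 P) : Van1 (f.fiber y) := by
  subst hj
  let z := j (IsLocalRing.closedPoint K)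
  let κ : Type u := Y.residueField z
  let fs := f.fiberToSpecResidueField z
  have hF : IsPullback (f.fiberι z) fs f (Y.fromSpecResidueField z) := IsPullback.of_hasPullback _ _
  let θ : Y.residueField z ⟶ CommRingCat.of K := Y.descResidueField (Scheme.stalkClosedPointTo j)
  have hθ : Spec.map θ ≫ Y.fromSpecResidueField z = j :=
    Y.descResidueField_stalkClosedPointTo_fromSpecResidueField K j
  have hw : fst ≫ f = (snd ≫ Spec.map θ) ≫ Y.fromSpecResidueField z := by
    rw [Category.assoc, hθ]; exact hP.w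
  have hP' : IsPullback (hF.lift _ _ hw) snd fs (Spec.map θ) :=
    IsPullback.of_right (s := by rw [hF.lift_fst, hθ]; exact hP) (hF.lift_snd _ _ hw) hF
  haveI := isQuasicoherent_structure (f.fiber z)
  haveI : IsProper fs := inferInstanceAs (IsProper (pullback.snd f (Y.fromSpecResidueField z)))
  haveI : CompactSpace (f.fiber z) := QuasiCompact.compactSpace_of_compactSpace fs
  haveI : (f.fiber z).IsSeparated := ⟨by rw [← terminal.comp_from fs]; infer_instance⟩
  letI : Algebra κ K := θ.hom.toAlgebra
  haveI : Module.Free κ K := inferInstance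
  obtain ⟨eb⟩ := BCCoh.exists_flatBC (A := κ) (B := K) θ.hom (show Module.Flat κ K from inferInstance) fs snd
    (hF.lift _ _ hw) hP' (Coh.structureModule (f.fiber z)) 1
  obtain ⟨eI, heI⟩ := BCCoh.exists_hh_equiv (B := K) snd (PicLoc.pullbackStructureIso (hF.lift _ _ hw)) 1
  letI := BCCoh.modHH (A := κ) fs (Coh.structureModule (f.fiber z)) 1
  haveI : Subsingleton (Coh.HH P (Coh.structureModule P) 1) := h1
  haveI : Subsingleton (Coh.HH P ((Scheme.Modules.pullback (hF.lift _ _ hw)).obj
      (Coh.structureModule (f.fiber z))) 1) := eI.toEquiv.subsingleton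
  haveI : Subsingleton (K ⊗[κ] Coh.HH (f.fiber z) (Coh.structureModule (f.fiber z)) 1) := eb.toEquiv.subsingleton
  have hinj : Function.Injective (LinearMap.rTensor (Coh.HH (f.fiber z) (Coh.structureModule (f.fiber z)) 1)
      (Algebra.linearMap κ K)) :=
    Module.Flat.rTensor_preserves_injective_linearMap _ θ.hom.injective
  exact (hinj.comp (TensorProduct.lid κ (Coh.HH (f.fiber z) (Coh.structureModule (f.fiber z)) 1)).symm.injective).subsingleton

end GrothLib.H1Fib29

namespace GrothLib.H1Fib29

variable {X Y : Scheme.{u}}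

theorem cst_affBase (f : X ⟶ Y) {V : Y.Opens} (hV : IsAffineOpen V) (a : Γ(Y, V)) :
    cst (BCCoh.affBase f hV) a = (f ⁻¹ᵁ V).topIso.inv (f.app V a) := by
  have e : cst (BCCoh.affBase f hV) a =
      (f ∣_ V).appTop (hV.isoSpec.hom.appTop ((Scheme.ΓSpecIso Γ(Y, V)).inv a)) := by
    show Coh.toGlobal _ a = _
    simp only [Coh.toGlobal, BCCoh.affBase, Scheme.Hom.comp_appTop]
    rfl
  rw [e, hV.isoSpec_hom_appTop, ConcreteCategory.comp_apply, Iso.inv_hom_id_apply, morphismRestrict_appTop]
  simp only [Scheme.Opens.topIso_inv, ConcreteCategory.comp_apply]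
  change X.presheaf.map _ (f.app _ (Y.presheaf.map _ a)) = X.presheaf.map _ (f.app V a)
  rw [← ConcreteCategory.comp_apply (Y.presheaf.map _), f.naturality, ConcreteCategory.comp_apply]
  change X.presheaf.map _ (X.presheaf.map _ (f.app V a)) = X.presheaf.map _ (f.app V a)
  rw [← ConcreteCategory.comp_apply, ← Functor.map_comp]
  rfl

theorem surjective_cst_affBase_iff (f : X ⟶ Y) {V : Y.Opens} (hV : IsAffineOpen V) :
    Function.Surjective (cst (BCCoh.affBase f hV)) ↔ Function.Surjective (f.app V) := by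
  have hb := ConcreteCategory.bijective_of_isIso (f ⁻¹ᵁ V).topIso.inv
  rw [show ⇑(cst (BCCoh.affBase f hV)) = (fun x => (f ⁻¹ᵁ V).topIso.inv x) ∘ (fun a => f.app V a) from
    funext (cst_affBase f hV)]
  exact ⟨fun h => Function.Surjective.of_comp_left h hb.1, fun h => hb.2.comp h⟩

theorem surjective_app_baseChange (f : X ⟶ Y) [IsProper f]
    (hd : ∀ y : Y, topologicalKrullDim ↥(f.fiber y) ≤ 1) (h1 : ∀ y : Y, Van1 (f.fiber y))
    (hs : ∀ U : Y.Opens, IsAffineOpen U → Function.Surjective (f.app U))
    {X' Y' : Scheme.{u}} (f' : X' ⟶ Y') (g' : X' ⟶ X) (g : Y' ⟶ Y) (hc : IsPullback g' f' f g)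
    {V : Y.Opens} (hV : IsAffineOpen V) {W : Y'.Opens} (hW : IsAffineOpen W) (hWV : W ≤ g ⁻¹ᵁ V) :
    Function.Surjective (f'.app W) := by
  rw [← surjective_cst_affBase_iff f' hW]
  have hsq := isPullback_affBase f hV
  haveI : IsProper (BCCoh.affBase f hV) := MorphismProperty.of_isPullback hsq ‹IsProper f›
  have hX' := (isPullback_affBase f' hW).paste_horiz hc
  rw [← IsAffineOpen.SpecMap_appLE_fromSpec g hV hW hWV] at hX'
  have hw := hX'.w
  rw [← Category.assoc (BCCoh.affBase f' hW)] at hw
  have hP : IsPullback (hsq.lift _ _ hw) (BCCoh.affBase f' hW) (BCCoh.affBase f hV) (Spec.map (g.appLE V W hWV)) :=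
    IsPullback.of_right (s := by rw [hsq.lift_fst]; exact hX') (hsq.lift_snd _ _ hw) hsq
  exact surjective_toGlobal_baseChange (g.appLE V W hWV).hom _ hP
    (van2_of_dim _ (fun s => dim_affBase f hV 1 (fun z _ => hd z) s)) (van1_preimage_of_forall f hd h1 hV)
    ((surjective_cst_affBase_iff f hV).2 (hs V hV))

end GrothLib.H1Fib29
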