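import Groth.Agent.Lib.H1Fib29.Basic
import Groth.Agent.Lib.BCCoh.FibreAffine
import Groth.Agent.S0403
import Mathlib.RingTheory.Support
import Mathlib.RingTheory.LocalRing.ResidueField.Ideal

/-!
# Vanishing of `R¹f_* O` near a fibre of dimension at most one with vanishing `H¹`
-/

set_option autoImplicit false
set_option backward.isDefEq.respectTransparency false
set_option linter.style.haveILetI false
set_option maxHeartbeats 400000

universe u

open CategoryTheory CategoryTheory.Limits AlgebraicGeometry TopologicalSpace Opposite Abelian TensorProduct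
open GrothLib GrothLib.QCoh GrothLib.RLpsi8

noncomputable section

namespace GrothLib.H1Fib29

variable {X Y : Scheme.{u}}

theorem exists_HHon_equiv (U : X.Opens) (n : ℕ) :
    Nonempty (Coh.HHon X (Coh.structureModule X) U n ≃+ Coh.HH (U : Scheme.{u}) (Coh.structureModule (U : Scheme.{u})) n) := by
  obtain ⟨e, -⟩ := BCCoh.exists_hh_equiv (B := Γ((U : Scheme.{u}), ⊤)) (U : Scheme.{u}).toSpecΓ
    ((Scheme.Modules.restrictFunctorIsoPullback U.ι).app (Coh.structureModule X) ≪≫ PicLoc.pullbackStructureIso U.ι) n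
  exact ⟨e⟩

theorem van1_opens_iff (U : X.Opens) :
    Van1 (U : Scheme.{u}) ↔ Subsingleton (Coh.HHon X (Coh.structureModule X) U 1) := by
  obtain ⟨e⟩ := exists_HHon_equiv U 1
  exact e.toEquiv.subsingleton_congr.symm

/-- The fibre as the base change to a residue field of an affine chart. -/
theorem isPullback_fiber (f : X ⟶ Y) {A : Type u} [CommRing A] (j : Spec (CommRingCat.of A) ⟶ Y)
    [IsOpenImmersion j] {X₁ : Scheme.{u}} {k : X₁ ⟶ X} {f₁ : X₁ ⟶ Spec (CommRingCat.of A)}
    (h : IsPullback k f₁ f j) (p : Spec (CommRingCat.of A)) :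
    ∃ (fst : f.fiber (j p) ⟶ X₁) (snd : f.fiber (j p) ⟶ Spec (CommRingCat.of p.asIdeal.ResidueField)),
      IsPullback fst snd f₁ (Spec.map (CommRingCat.ofHom (algebraMap A p.asIdeal.ResidueField))) := by
  let σ : Spec (CommRingCat.of p.asIdeal.ResidueField) ⟶ Spec (Y.residueField (j p)) :=
    Spec.map (Scheme.Spec.residueFieldIso (CommRingCat.of A) p).hom ≫ Spec.map (j.residueFieldMap p)
  haveI : IsIso σ := inferInstance
  have hσ : σ ≫ Y.fromSpecResidueField (j p) =
      Spec.map (CommRingCat.ofHom (algebraMap A p.asIdeal.ResidueField)) ≫ j := by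
    simp only [σ, Category.assoc, Scheme.Hom.SpecMap_residueFieldMap_fromSpecResidueField]
    rw [← Scheme.Spec.map_residueFieldIso_inv_eq_fromSpecResidueField, ← Category.assoc, ← Category.assoc,
      ← Spec.map_comp, Iso.inv_hom_id, Spec.map_id, Category.id_comp]
  have h0 : IsPullback (f.fiberι (j p)) (f.fiberToSpecResidueField (j p) ≫ inv σ) f
      (σ ≫ Y.fromSpecResidueField (j p)) := by
    refine (IsPullback.of_hasPullback f (Y.fromSpecResidueField (j p))).of_iso (Iso.refl _) (Iso.refl _)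
      (asIso σ).symm (Iso.refl _) ?_ ?_ ?_ ?_
    · exact (Category.comp_id _).trans (Category.id_comp _).symm
    · exact (Category.id_comp _).symm
    · exact (Category.comp_id _).trans (Category.id_comp _).symm
    · simp
  rw [hσ] at h0
  have hw := h0.w
  rw [← Category.assoc] at hw
  exact ⟨h.lift _ _ hw, _, IsPullback.of_right (s := by rw [h.lift_fst]; exact h0) (h.lift_snd _ _ hw) h⟩

/-- A finite `H¹` is killed outside a point over which it vanishes. -/
theorem exists_killed {A : Type u} [CommRing A] {X : Scheme.{u}} (f : X ⟶ Spec (CommRingCat.of A)) [IsProper f]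
    (hX : Van2 X)
    (hfin : letI := BCCoh.modHH f (Coh.structureModule X) 1; Module.Finite A (Coh.HH X (Coh.structureModule X) 1))
    (p : PrimeSpectrum A) {P : Scheme.{u}} {fst : P ⟶ X} {snd : P ⟶ Spec (CommRingCat.of p.asIdeal.ResidueField)}
    (hP : IsPullback fst snd f (Spec.map (CommRingCat.ofHom (algebraMap A p.asIdeal.ResidueField))))
    (h1 : Van1 P) :
    ∃ a ∉ p.asIdeal, ∀ w : Coh.HH X (Coh.structureModule X) 1,
      Sheaf.H.map (Coh.smulAb (Coh.structureModule X) (Coh.toGlobal f a)) 1 w = 0 := by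
  haveI := isQuasicoherent_structure X
  letI := BCCoh.modHH f (Coh.structureModule X) 1
  haveI : Module.Finite A (Coh.HH X (Coh.structureModule X) 1) := hfin
  haveI : CompactSpace X := QuasiCompact.compactSpace_of_compactSpace f
  haveI : X.IsSeparated := ⟨by rw [← terminal.comp_from f]; infer_instance⟩
  let L : Type u := Localization.AtPrime p.asIdeal
  let φ : A →+* L := algebraMap A L
  let Q := pullback f (Spec.map (CommRingCat.ofHom φ))
  let g : Q ⟶ X := pullback.fst _ _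
  let fQ : Q ⟶ Spec (CommRingCat.of L) := pullback.snd _ _
  have HQ : IsPullback g fQ f (Spec.map (CommRingCat.ofHom φ)) := IsPullback.of_hasPullback _ _
  haveI : IsAffineHom g := MorphismProperty.of_isPullback HQ.flip inferInstance
  haveI : IsProper fQ := inferInstanceAs (IsProper (pullback.snd _ _))
  haveI : CompactSpace Q := QuasiCompact.compactSpace_of_compactSpace fQ
  haveI : QuasiSeparatedSpace Q := quasiSeparatedSpace_of_quasiSeparated fQ
  have hφ : φ.Flat := RingHom.flat_algebraMap_iff.2 (IsLocalization.flat L p.asIdeal.primeCompl)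
  have hb := BCCoh.exists_flatBC φ hφ f fQ g HQ (Coh.structureModule X) 1
  rw [show φ.toAlgebra = (inferInstance : Algebra A L) from Algebra.algebra_ext _ _ fun _ => rfl] at hb
  obtain ⟨eb⟩ := hb
  obtain ⟨eI, heI⟩ := BCCoh.exists_hh_equiv (B := L) fQ (PicLoc.pullbackStructureIso g) 1
  letI := BCCoh.modHH fQ (Coh.structureModule Q) 1
  letI := BCCoh.modHH fQ ((Scheme.Modules.pullback g).obj (Coh.structureModule X)) 1
  let E : (L ⊗[A] Coh.HH X (Coh.structureModule X) 1) ≃ₗ[L] Coh.HH Q (Coh.structureModule Q) 1 :=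
    eb.trans (eI.toLinearEquiv heI)
  haveI : Module.Finite L (Coh.HH Q (Coh.structureModule Q) 1) := Module.Finite.equiv E
  have hres : algebraMap A p.asIdeal.ResidueField = (IsLocalRing.residue L).comp φ :=
    IsScalarTower.algebraMap_eq A L p.asIdeal.ResidueField
  rw [hres] at hP
  have hw : fst ≫ f = (snd ≫ Spec.map (CommRingCat.ofHom (IsLocalRing.residue L))) ≫
      Spec.map (CommRingCat.ofHom φ) := by
    rw [Category.assoc, ← Spec.map_comp]; exact hP.w
  have hP' : IsPullback (HQ.lift _ _ hw) snd fQ (Spec.map (CommRingCat.ofHom (IsLocalRing.residue L))) :=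
    IsPullback.of_right (s := by
      rw [HQ.lift_fst, ← Spec.map_comp]; exact hP) (HQ.lift_snd _ _ hw) HQ
  have hQ1 : Van1 Q := van1_of_closedFibre hP' IsLocalRing.residue_surjective
    (le_of_eq IsLocalRing.ker_residue) (van2_of_affineHom g hX) inferInstance h1
  haveI : Subsingleton (Coh.HH Q (Coh.structureModule Q) 1) := hQ1
  haveI : Subsingleton (L ⊗[A] Coh.HH X (Coh.structureModule X) 1) := E.toEquiv.subsingleton
  haveI : Subsingleton (LocalizedModule p.asIdeal.primeCompl (Coh.HH X (Coh.structureModule X) 1)) :=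
    (IsLocalizedModule.isBaseChange p.asIdeal.primeCompl L
      (LocalizedModule.mkLinearMap p.asIdeal.primeCompl (Coh.HH X (Coh.structureModule X) 1))).equiv.symm.toEquiv.subsingleton
  have hsupp : p ∉ Module.support A (Coh.HH X (Coh.structureModule X) 1) := Module.notMem_support_iff.2 ‹_›
  rw [Module.mem_support_iff_of_finite] at hsupp
  obtain ⟨a, ha, hap⟩ := SetLike.not_le_iff_exists.1 hsupp
  exact ⟨a, hap, fun w => Module.mem_annihilator.1 ha w⟩

theorem isPullback_affBase (f : X ⟶ Y) {V : Y.Opens} (hV : IsAffineOpen V) :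
    IsPullback (f ⁻¹ᵁ V).ι (BCCoh.affBase f hV) f hV.fromSpec :=
  (isPullback_morphismRestrict f V).flip.of_iso (Iso.refl _) (Iso.refl _) hV.isoSpec (Iso.refl _)
    ((Category.comp_id _).trans (Category.id_comp _).symm) (Category.id_comp _).symm
    ((Category.comp_id _).trans (Category.id_comp _).symm)
    (by rw [Iso.refl_hom, Category.comp_id, hV.isoSpec_hom, hV.toSpecΓ_fromSpec])

theorem dim_affBase (f : X ⟶ Y) {V : Y.Opens} (hV : IsAffineOpen V) (d : ℕ)
    (hd : ∀ y ∈ V, topologicalKrullDim ↥(f.fiber y) ≤ d) (s : Spec Γ(Y, V)) :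
    topologicalKrullDim ↥((BCCoh.affBase f hV).fiber s) ≤ d :=
  TopDegree.dim_fiber_comp_iso (f ∣_ V) hV.isoSpec.hom d
    (fun z => by rw [FibreVanish.dim_fiber_restrict]; exact hd _ z.2) s

/-- Around a point of an affine base, an affine open over which `H¹` is finite. -/
theorem exists_finite_chart {A : Type u} [CommRing A] (f : X ⟶ Spec (CommRingCat.of A)) [IsProper f]
    (hd : ∀ s, topologicalKrullDim ↥(f.fiber s) ≤ 1) (y : Spec (CommRingCat.of A)) :
    ∃ (W : (Spec (CommRingCat.of A)).Opens) (hW : IsAffineOpen W), y ∈ W ∧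
      letI := BCCoh.modHH (BCCoh.affBase f hW) (Coh.structureModule (f ⁻¹ᵁ W : X.Opens)) 1
      Module.Finite Γ(Spec (CommRingCat.of A), W)
        (Coh.HH (f ⁻¹ᵁ W : X.Opens) (Coh.structureModule (f ⁻¹ᵁ W : X.Opens)) 1) := by
  haveI : (Coh.structureModule X).IsQuasicoherent := isQuasicoherent_structure X
  obtain ⟨W, hW, hy, hfin⟩ := TopDegree.exists_nhd_finite f 1 (fun s => hd s) (Coh.structureModule X)
    (Euler.isCoh_of_isInvertible Euler.isInvertible_structure) y
  obtain ⟨e, he⟩ := BCCoh.exists_Rpush_equiv f hW (Coh.structureModule X) 1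
  obtain ⟨eI, heI⟩ := BCCoh.exists_hh_equiv (B := Γ(Spec (CommRingCat.of A), W)) (BCCoh.affBase f hW)
    ((Scheme.Modules.restrictFunctorIsoPullback (f ⁻¹ᵁ W).ι).app (Coh.structureModule X) ≪≫
      PicLoc.pullbackStructureIso (f ⁻¹ᵁ W).ι) 1
  refine ⟨W, hW, hy, ?_⟩
  letI := BCCoh.modHH (BCCoh.affBase f hW) (Coh.structureModule (f ⁻¹ᵁ W : X.Opens)) 1
  letI := BCCoh.modHH (BCCoh.affBase f hW) ((Coh.structureModule X).restrict (f ⁻¹ᵁ W).ι) 1
  haveI := hfin
  exact Module.Finite.equiv ((e.toLinearEquiv he).symm.trans (eI.toLinearEquiv heI))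

/-- Fibre dimension `≤ 1` gives vanishing in degree two after every affine base change nearby. -/
theorem exists_van2_chart (f : X ⟶ Y) [IsProper f] (y : Y) (hd : topologicalKrullDim ↥(f.fiber y) ≤ 1) :
    ∃ (V : Y.Opens) (hV : IsAffineOpen V), y ∈ V ∧
      ∀ s, topologicalKrullDim ↥((BCCoh.affBase f hV).fiber s) ≤ 1 := by
  obtain ⟨V, hV, hyV, hVU⟩ := exists_isAffineOpen_mem_and_subset
    (U := (⟨{s : Y | topologicalKrullDim (f.fiber s) ≤ ((1 : ℕ) : WithBot ℕ∞)}, Groth.Agent.S0403.result f 1⟩ : Y.Opens))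
    (x := y) hd
  exact ⟨V, hV, hyV, fun s => dim_affBase f hV 1 (fun z hz => hVU hz) s⟩

/-- **Vanishing of `R¹` near a fibre, universally.** -/
theorem exists_nhd_van1 (f : X ⟶ Y) [IsProper f] (y : Y) (hd : topologicalKrullDim ↥(f.fiber y) ≤ 1)
    (h1 : Van1 (f.fiber y)) :
    ∃ V : Y.Opens, y ∈ V ∧ ∀ {B : Type u} [CommRing B] (g : Spec (CommRingCat.of B) ⟶ Y), (∀ z, g z ∈ V) →
      ∀ {P : Scheme.{u}} {fst : P ⟶ X} {snd : P ⟶ Spec (CommRingCat.of B)}, IsPullback fst snd f g → Van1 P := by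
  obtain ⟨V₀, hV₀, hy₀, hd₀⟩ := exists_van2_chart f y hd
  let f₀ := BCCoh.affBase f hV₀
  haveI : IsProper f₀ := MorphismProperty.of_isPullback (isPullback_affBase f hV₀) ‹IsProper f›
  obtain ⟨y₀, hy₀'⟩ : y ∈ Set.range hV₀.fromSpec := by rw [hV₀.range_fromSpec]; exact hy₀
  obtain ⟨W, hW, hyW, hfin⟩ := exists_finite_chart (A := Γ(Y, V₀)) f₀ (fun s => hd₀ s) y₀
  let f₁ := BCCoh.affBase f₀ hW
  let j : Spec Γ(Spec Γ(Y, V₀), W) ⟶ Y := hW.fromSpec ≫ hV₀.fromSpec
  have hsq : IsPullback ((f₀ ⁻¹ᵁ W).ι ≫ (f ⁻¹ᵁ V₀).ι) f₁ f j :=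
    (isPullback_affBase f₀ hW).paste_horiz (isPullback_affBase f hV₀)
  haveI : IsProper f₁ := MorphismProperty.of_isPullback hsq ‹IsProper f›
  have hX0 : Van2 (f ⁻¹ᵁ V₀ : X.Opens) := van2_of_dim f₀ hd₀
  haveI : IsAffineHom (f₀ ⁻¹ᵁ W).ι :=
    MorphismProperty.of_isPullback (isPullback_affBase f₀ hW).flip (inferInstance : IsAffineHom hW.fromSpec)
  have hX1 := van2_of_affineHom (f₀ ⁻¹ᵁ W).ι hX0
  obtain ⟨p, hp⟩ : y₀ ∈ Set.range hW.fromSpec := by rw [hW.range_fromSpec]; exact hyW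
  have hjp : j p = y := (Scheme.Hom.comp_apply _ _ _).trans ((congrArg _ hp).trans hy₀')
  obtain ⟨fs, sn, hF⟩ := isPullback_fiber (A := Γ(Spec Γ(Y, V₀), W)) f j hsq p
  subst hjp
  obtain ⟨a, ha, hk⟩ := exists_killed (A := Γ(Spec Γ(Y, V₀), W)) f₁ hX1 hfin p hF h1
  refine ⟨j ''ᵁ PrimeSpectrum.basicOpen a, ⟨p, ha, rfl⟩, fun {B} _ g hg {P fst snd} hP => ?_⟩
  have hgr : Set.range g ⊆ Set.range j := by
    rintro _ ⟨z, rfl⟩
    obtain ⟨t, -, ht⟩ := hg z
    exact ⟨t, ht⟩
  let g' := IsOpenImmersion.lift j g hgr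
  have hg' : g' ≫ j = g := IsOpenImmersion.lift_fac _ _ _
  let q : Γ(Spec Γ(Y, V₀), W) ⟶ CommRingCat.of B := Spec.preimage g'
  have hq : Spec.map q = g' := Spec.map_preimage _
  have hu : IsUnit (q.hom a) := by
    by_contra hn
    obtain ⟨m, hm, hmem⟩ := exists_max_ideal_of_mem_nonunits hn
    let z : Spec (CommRingCat.of B) := ⟨m, hm.isPrime⟩
    obtain ⟨t, ht, hte⟩ := hg z
    have hzt : g' z = t := j.isOpenEmbedding.injective (by rw [← Scheme.Hom.comp_apply, hg']; exact hte.symm)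
    have : Spec.map q z ∈ PrimeSpectrum.basicOpen a := by rw [hq, hzt]; exact ht
    exact this hmem
  have hw : fst ≫ f = (snd ≫ g') ≫ j := by rw [Category.assoc, hg']; exact hP.w
  have hP' : IsPullback (hsq.lift _ _ hw) snd f₁ (Spec.map q) := by
    refine IsPullback.of_right (s := ?_) (p := (hsq.lift_snd _ _ hw).trans (congrArg (snd ≫ ·) hq.symm)) (t := hsq)
    rw [hsq.lift_fst, hq, hg']
    exact hP
  haveI : CompactSpace ((f₀ ⁻¹ᵁ W : (f ⁻¹ᵁ V₀ : X.Opens).toScheme.Opens) : Scheme.{u}) :=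
    QuasiCompact.compactSpace_of_compactSpace f₁
  haveI : QuasiSeparatedSpace ((f₀ ⁻¹ᵁ W : (f ⁻¹ᵁ V₀ : X.Opens).toScheme.Opens) : Scheme.{u}) :=
    quasiSeparatedSpace_of_quasiSeparated f₁
  exact van1_of_killed (A := Γ(Spec Γ(Y, V₀), W)) (q := q.hom) hP' hX1 a hu hk

end GrothLib.H1Fib29
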